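import Mathlib

/-!
Enlarging a group without changing its element orders, along a normal subgroup of prime exponent.
-/

set_option autoImplicit false

namespace Cfsg.Agent.Lib.SpecPGL

variable {H : Type*} [Group H]

/-- The tuples that are constant modulo a normal subgroup. -/
def fibre (N : Subgroup H) [N.Normal] (n : ℕ) : Subgroup (Fin (n + 1) → H) where
  carrier := {f | ∀ i, QuotientGroup.mk' N (f i) = QuotientGroup.mk' N (f 0)}
  mul_mem' := by
    intro a b ha hb i
    simp only [Pi.mul_apply, map_mul, ha i, hb i]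
  one_mem' := by intro i; rfl
  inv_mem' := by
    intro a ha i
    simp only [Pi.inv_apply, map_inv, ha i]

theorem range_fibre [Finite H] (N : Subgroup H) [N.Normal] (n : ℕ) (p : ℕ) (hp : p.Prime)
    (hN : ∀ x ∈ N, x ^ p = 1) :
    Set.range (orderOf : ↥(fibre N n) → ℕ) = Set.range (orderOf : H → ℕ) := by
  apply Set.eq_of_subset_of_subset
  · rintro _ ⟨f, rfl⟩
    set k := orderOf (QuotientGroup.mk' N (f.1 0))
    have hdvd : ∀ i, orderOf (f.1 i) ∣ k * p := by
      intro i
      refine orderOf_dvd_of_pow_eq_one ?_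
      rw [pow_mul]
      refine hN _ ((QuotientGroup.eq_one_iff _).mp ?_)
      show QuotientGroup.mk' N (f.1 i ^ k) = 1
      rw [map_pow, f.2 i]
      exact pow_orderOf_eq_one _
    have hk : ∀ i, k ∣ orderOf (f.1 i) := fun i => by
      show orderOf (QuotientGroup.mk' N (f.1 0)) ∣ _
      rw [← f.2 i]
      exact orderOf_map_dvd _ _
    have hall : ∀ i, orderOf (f.1 i) = k ∨ orderOf (f.1 i) = k * p := by
      intro i
      obtain ⟨c, hc⟩ := hk i
      have hkpos : 0 < k := orderOf_pos _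
      have := hdvd i
      rw [hc] at this ⊢
      rcases (Nat.dvd_prime hp).mp ((Nat.mul_dvd_mul_iff_left hkpos).mp this) with h | h
      · exact Or.inl (by rw [h, mul_one])
      · exact Or.inr (by rw [h])
    have hiff : ∀ m, orderOf f ∣ m ↔ ∀ i, orderOf (f.1 i) ∣ m := fun m => by
      simp only [orderOf_dvd_iff_pow_eq_one, ← Subtype.coe_inj, SubmonoidClass.coe_pow,
        OneMemClass.coe_one, funext_iff, Pi.pow_apply, Pi.one_apply]
    by_cases h : ∀ i, orderOf (f.1 i) = k
    · refine ⟨f.1 0, Nat.dvd_antisymm ?_ ?_⟩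
      · exact (hiff _).mp dvd_rfl 0
      · refine (hiff _).mpr fun i => ?_
        rw [h i, h 0]
    · push Not at h
      obtain ⟨i, hi⟩ := h
      have hi' := (hall i).resolve_left hi
      refine ⟨f.1 i, Nat.dvd_antisymm ?_ ?_⟩
      · exact (hiff _).mp dvd_rfl i
      · refine (hiff _).mpr fun j => ?_
        rw [hi']; exact hdvd j
  · rintro _ ⟨h, rfl⟩
    refine ⟨⟨fun _ => h, fun _ => rfl⟩, ?_⟩
    have hinj : Function.Injective fun x : H => (fun _ => x : Fin (n + 1) → H) :=
      fun a b e => congrFun e 0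
    rw [← Subgroup.orderOf_coe]
    exact orderOf_injective (Pi.constMonoidHom (Fin (n + 1)) H) hinj h

theorem card_fibre_gt [Finite H] (N : Subgroup H) [N.Normal] (hN : N ≠ ⊥) (n : ℕ) :
    n < Nat.card ↥(fibre N n) := by
  classical
  obtain ⟨x, hx, hx1⟩ : ∃ x ∈ N, x ≠ 1 := (Subgroup.ne_bot_iff_exists_ne_one.mp hN).elim
    fun a ha => ⟨a.1, a.2, fun e => ha (Subtype.ext e)⟩
  let φ : Fin (n + 1) → ↥(fibre N n) := fun j => ⟨Pi.mulSingle j x, fun i => by
    have h1 : ∀ k, QuotientGroup.mk' N ((Pi.mulSingle j x : Fin (n + 1) → H) k) = 1 := by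
      intro k
      by_cases hk : k = j
      · subst hk; rw [Pi.mulSingle_eq_same]; exact (QuotientGroup.eq_one_iff x).mpr hx
      · rw [Pi.mulSingle_eq_of_ne hk]; rfl
    rw [h1, h1]⟩
  have hφ : Function.Injective φ := by
    intro a b e
    by_contra hab
    have := congrFun (congrArg Subtype.val e) a
    simp only [φ, Pi.mulSingle_eq_same, Pi.mulSingle_eq_of_ne hab] at this
    exact hx1 this
  have := Nat.card_le_card_of_injective φ hφ
  rw [Nat.card_fin] at this
  omega

theorem range_prod {X Y : Type*} [Group X] [Group Y] :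
    Set.range (orderOf : X × Y → ℕ) =
      Set.image2 Nat.lcm (Set.range (orderOf : X → ℕ)) (Set.range (orderOf : Y → ℕ)) := by
  ext d
  constructor
  · rintro ⟨⟨a, b⟩, rfl⟩
    exact ⟨_, ⟨a, rfl⟩, _, ⟨b, rfl⟩, (Prod.orderOf_mk).symm⟩
  · rintro ⟨_, ⟨a, rfl⟩, _, ⟨b, rfl⟩, rfl⟩
    exact ⟨(a, b), Prod.orderOf_mk⟩

theorem range_prod_congr {A B C : Type*} [Group A] [Group B] [Group C]
    (h : Set.range (orderOf : B → ℕ) = Set.range (orderOf : C → ℕ)) :
    Set.range (orderOf : A × B → ℕ) = Set.range (orderOf : A × C → ℕ) := by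
  rw [range_prod, range_prod, h]

theorem range_congr_mulEquiv {A B : Type*} [Group A] [Group B] (e : A ≃* B) :
    Set.range (orderOf : A → ℕ) = Set.range (orderOf : B → ℕ) := by
  ext d
  constructor
  · rintro ⟨a, rfl⟩; exact ⟨e a, MulEquiv.orderOf_eq e a⟩
  · rintro ⟨b, rfl⟩; exact ⟨e.symm b, MulEquiv.orderOf_eq e.symm b⟩

end Cfsg.Agent.Lib.SpecPGL
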