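import Mathlib

/-!
Powers in the semidirect product of a power of a module by the group acting on it.
-/

set_option autoImplicit false

namespace Cfsg.Agent.Lib.SpecPGL

variable (C W ι : Type*) [Group C] [AddCommGroup W] [DistribMulAction C W]

/-- The action on the multiplicative copy of `W^ι`. -/
def act : C →* MulAut (Multiplicative (ι → W)) where
  toFun c := AddEquiv.toMultiplicative (DistribMulAction.toAddEquiv (ι → W) c)
  map_one' := MulEquiv.ext fun v => congrArg Multiplicative.ofAdd (one_smul C v.toAdd)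
  map_mul' c d := MulEquiv.ext fun v => congrArg Multiplicative.ofAdd (mul_smul c d v.toAdd)

/-- `W^ι ⋊ C`. -/
abbrev Ext : Type _ := Multiplicative (ι → W) ⋊[act C W ι] C

variable {C W ι}

instance [Finite C] [Finite W] [Finite ι] : Finite (Ext C W ι) :=
  Finite.of_equiv _ SemidirectProduct.equivProd.symm

theorem act_apply (c : C) (v : Multiplicative (ι → W)) :
    (act C W ι c v).toAdd = c • v.toAdd := rfl

theorem pow_right (x : Ext C W ι) (n : ℕ) : (x ^ n).right = x.right ^ n :=
  map_pow SemidirectProduct.rightHom x n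

theorem pow_left (x : Ext C W ι) (n : ℕ) :
    (x ^ n).left.toAdd = ∑ i ∈ Finset.range n, x.right ^ i • x.left.toAdd := by
  induction n with
  | zero => rfl
  | succ n ih =>
    rw [pow_succ, SemidirectProduct.mul_left, toAdd_mul, ih, act_apply, pow_right,
      Finset.sum_range_succ]

theorem pow_eq_one_iff (x : Ext C W ι) (n : ℕ) :
    x ^ n = 1 ↔ x.right ^ n = 1 ∧ ∑ i ∈ Finset.range n, x.right ^ i • x.left.toAdd = 0 := by
  constructor
  · intro h
    refine ⟨?_, ?_⟩
    · rw [← pow_right, h]; rfl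
    · rw [← pow_left, h]; rfl
  · rintro ⟨h1, h2⟩
    refine SemidirectProduct.ext ?_ ?_
    · exact Multiplicative.toAdd.injective ((pow_left x n).trans h2)
    · rw [pow_right, h1]; rfl

/-- A fixed-point-free element kills its norms. -/
theorem sum_eq_zero (r : C) (k : ℕ) (hk : r ^ k = 1) (hr : ∀ w : W, r • w = w → w = 0)
    (v : ι → W) : ∑ i ∈ Finset.range k, r ^ i • v = 0 := by
  funext j
  rw [Finset.sum_apply]
  simp only [Pi.smul_apply, Pi.zero_apply]
  refine hr _ ?_
  rw [Finset.smul_sum]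
  have h1 := Finset.sum_range_succ' (fun i => r ^ i • v j) k
  have h2 := Finset.sum_range_succ (fun i => r ^ i • v j) k
  rw [h2] at h1
  simp only [hk, pow_zero, one_smul] at h1
  simp only [smul_smul, ← pow_succ']
  exact (add_right_cancel h1).symm

theorem pow_eq_one_of_fpf (x : Ext C W ι) (k : ℕ) (hk : x.right ^ k = 1)
    (hr : ∀ w : W, x.right • w = w → w = 0) : x ^ k = 1 :=
  (pow_eq_one_iff x k).mpr ⟨hk, sum_eq_zero _ k hk hr _⟩

theorem pow_mul_eq_one (x : Ext C W ι) (k e : ℕ) (hk : x.right ^ k = 1)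
    (he : ∀ w : W, e • w = 0) : x ^ (k * e) = 1 := by
  rw [pow_mul]
  refine (pow_eq_one_iff _ e).mpr ⟨by rw [pow_right, hk, one_pow], ?_⟩
  funext j
  simp [pow_right, hk, he]

theorem orderOf_inr (c : C) : orderOf (SemidirectProduct.inr c : Ext C W ι) = orderOf c :=
  orderOf_injective _ SemidirectProduct.inr_injective c

theorem card_ext_gt [Finite C] [Finite W] [Nontrivial W] (N : ℕ) :
    N < Nat.card (Ext C W (Fin (N + 1))) := by
  rw [SemidirectProduct.card]
  have h1 : 0 < Nat.card C := Nat.card_pos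
  have h2 : 2 ≤ Nat.card W := Finite.one_lt_card
  have h3 : Nat.card (Multiplicative (Fin (N + 1) → W)) = Nat.card W ^ (N + 1) := by
    rw [Nat.card_congr Multiplicative.toAdd, Nat.card_fun, Nat.card_fin]
  rw [h3]
  calc N < 2 ^ (N + 1) := (Nat.lt_two_pow_self).trans_le (Nat.pow_le_pow_right two_pos (by omega))
    _ ≤ Nat.card W ^ (N + 1) := Nat.pow_le_pow_left h2 _
    _ ≤ _ := Nat.le_mul_of_pos_right _ h1

/-- The orders in a Frobenius extension. -/
theorem range_orderOf_fpf [Finite C] [Finite W] [Nontrivial W] [Nonempty ι] [Finite ι] (r : ℕ)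
    [Fact r.Prime] (hr : ∀ w : W, r • w = 0)
    (hfpf : ∀ c : C, c ≠ 1 → ∀ w : W, c • w = w → w = 0) :
    Set.range (orderOf : Ext C W ι → ℕ) = {d | d ∣ r} ∪ Set.range (orderOf : C → ℕ) := by
  apply Set.eq_of_subset_of_subset
  · rintro _ ⟨x, rfl⟩
    by_cases hx : x.right = 1
    · refine Or.inl (orderOf_dvd_of_pow_eq_one ?_)
      have := pow_mul_eq_one x 1 r (by rw [pow_one, hx]) hr
      rwa [one_mul] at this
    · refine Or.inr ⟨x.right, Nat.dvd_antisymm ?_ ?_⟩
      · exact orderOf_map_dvd SemidirectProduct.rightHom x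
      · exact orderOf_dvd_of_pow_eq_one
          (pow_eq_one_of_fpf x _ (pow_orderOf_eq_one _) (hfpf _ hx))
  · rintro d (hd | ⟨c, rfl⟩)
    · rcases (Nat.dvd_prime Fact.out).mp hd with h | h
      · exact ⟨1, by rw [orderOf_one, h]⟩
      · obtain ⟨w, hw⟩ := exists_ne (0 : W)
        refine ⟨⟨Multiplicative.ofAdd fun _ => w, 1⟩, h ▸ orderOf_eq_prime ?_ ?_⟩
        · have := pow_mul_eq_one (⟨Multiplicative.ofAdd fun _ => w, 1⟩ : Ext C W ι) 1 r
            (by simp) hr
          rwa [one_mul] at this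
        · intro h1
          obtain ⟨j⟩ := ‹Nonempty ι›
          exact hw (congrFun (congrArg (fun z : Ext C W ι => z.left.toAdd) h1) j)
    · exact ⟨_, orderOf_inr c⟩

end Cfsg.Agent.Lib.SpecPGL
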