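import Mathlib
import Cfsg.Agent.Lib.KnownA.Singer

/-!
The element orders of `PGL₂(q)` for `q` odd or equal to `2`.
-/

set_option autoImplicit false

namespace Cfsg.Agent.Lib.SpecPGL

open Matrix

variable {F : Type*} [Field F]

/-- The divisors of `p`, `q - 1` and `q + 1`. -/
def specSet (p q : ℕ) : Set ℕ := {d | d ∣ p ∨ d ∣ q - 1 ∨ d ∣ q + 1}

local notation "Mat" => Matrix (Fin 2) (Fin 2) F

theorem scalar_mem_center (g : GL (Fin 2) F) (c : F) (h : (g : Mat) = c • (1 : Mat)) :
    g ∈ Subgroup.center (GL (Fin 2) F) := by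
  rw [Subgroup.mem_center_iff]
  intro k
  refine Units.ext ?_
  rw [Units.val_mul, Units.val_mul, h]
  simp

theorem mk_pow_eq_one_iff (g : GL (Fin 2) F) (n : ℕ) :
    (QuotientGroup.mk' (Subgroup.center (GL (Fin 2) F)) g) ^ n = 1 ↔
      g ^ n ∈ Subgroup.center (GL (Fin 2) F) := by
  rw [← map_pow]; exact QuotientGroup.eq_one_iff _

theorem cayley (M : Mat) : M * M = M.trace • M - M.det • (1 : Mat) := by
  ext i j
  fin_cases i <;> fin_cases j <;>
    simp [Matrix.mul_apply, Fin.sum_univ_two, Matrix.trace_fin_two, Matrix.det_fin_two] <;> ring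

theorem pow_mem_center [Fintype F] (p : ℕ) [Fact p.Prime] [CharP F p]
    (hq : p ≠ 2 ∨ Fintype.card F = 2) (g : GL (Fin 2) F) :
    g ^ p ∈ Subgroup.center (GL (Fin 2) F) ∨
      g ^ (Fintype.card F - 1) ∈ Subgroup.center (GL (Fin 2) F) ∨
        g ^ (Fintype.card F + 1) ∈ Subgroup.center (GL (Fin 2) F) := by
  classical
  obtain ⟨n, hp, hn⟩ := FiniteField.card F p
  set q := Fintype.card F with hqdef
  set M : Mat := (g : Mat) with hM
  set t := M.trace
  set d := M.det
  have hCH : M * M = t • M - d • (1 : Mat) := cayley M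
  by_cases hp2 : p = 2
  · subst hp2
    have hq2 : q = 2 := hq.resolve_left (by simp)
    have h01 : ∀ x : F, x = 0 ∨ x = 1 := by
      intro x
      by_contra h
      push Not at h
      have h3 : ({x, 0, 1} : Finset F).card = 3 := by simp [h.1, h.2]
      have := Finset.card_le_univ ({x, 0, 1} : Finset F)
      omega
    rcases h01 t with ht | ht
    · refine Or.inl (scalar_mem_center _ (-d) ?_)
      rw [Units.val_pow_eq_pow_val, ← hM, sq, hCH, ht, zero_smul, zero_sub, neg_smul]
    · refine Or.inr (Or.inr (scalar_mem_center _ (-1) ?_))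
      have hd : d = 1 := (h01 d).resolve_left (Matrix.GeneralLinearGroup.det_ne_zero g)
      rw [Units.val_pow_eq_pow_val, ← hM, hq2, pow_succ, sq, hCH, ht, hd, one_smul, one_smul,
        sub_mul, one_mul, hCH, ht, hd, one_smul, one_smul, neg_smul, one_smul]
      abel
  · have h2 : (2 : F) ≠ 0 := Ring.two_ne_zero (by rw [ringChar.eq F p]; exact hp2)
    set D := t ^ 2 - 4 * d
    set N : Mat := (2 : F) • M - t • (1 : Mat) with hN
    have hNN : N * N = D • (1 : Mat) := by
      simp only [hN, sub_mul, mul_sub, smul_mul_assoc, mul_smul_comm, smul_smul, one_mul, mul_one,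
        hCH, D, smul_sub]
      module
    have hpow : ∀ k : ℕ, N ^ p ^ k = ((2 : F) ^ p ^ k) • M ^ p ^ k - (t ^ p ^ k) • (1 : Mat) := by
      intro k
      rw [hN, sub_pow_char_pow_of_commute p _ ((Commute.one_right _).smul_right t), smul_pow,
        smul_pow, one_pow]
    by_cases hD : D = 0
    · refine Or.inl (scalar_mem_center _ (t ^ p / 2 ^ p) ?_)
      have h0 : N ^ p = 0 := by
        rw [show p = 2 + (p - 2) by have := hp.two_le; omega, pow_add, sq, hNN, hD, zero_smul,
          zero_mul]
      have h1 := hpow 1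
      rw [pow_one, h0, eq_comm, sub_eq_zero] at h1
      rw [Units.val_pow_eq_pow_val, ← hM, div_eq_inv_mul, ← smul_smul, ← h1, smul_smul,
        inv_mul_cancel₀ (pow_ne_zero _ h2), one_smul]
    · have hchar : ringChar F ≠ 2 := by rw [ringChar.eq F p]; exact hp2
      have hodd : q % 2 = 1 := FiniteField.odd_card_of_char_ne_two hchar
      have hh : q = 2 * (q / 2) + 1 := by omega
      have hNq : N ^ q = D ^ (q / 2) • N := by
        conv_lhs => rw [hh]
        rw [pow_succ, pow_mul, sq, hNN, smul_pow, one_pow, smul_mul_assoc, one_mul]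
      have h3 : N ^ q = (2 : F) • M ^ q - t • (1 : Mat) := by
        have h4 := hpow (n : ℕ)
        rw [← hn, hqdef, FiniteField.pow_card, FiniteField.pow_card] at h4
        exact h4
      rcases FiniteField.pow_dichotomy hchar hD with h | h
      · rw [← hqdef] at h
        rw [h, one_smul, h3, hN, sub_left_inj] at hNq
        have h5 : g ^ q = g := Units.ext (by
          rw [Units.val_pow_eq_pow_val, ← hM]
          exact smul_right_injective Mat h2 hNq)
        refine Or.inr (Or.inl ?_)
        have h6 : g ^ (q - 1) = 1 := by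
          rw [show q = q - 1 + 1 by omega, pow_succ, mul_eq_right] at h5
          exact h5
        rw [h6]; exact one_mem _
      · rw [← hqdef] at h
        rw [h, neg_smul, one_smul, h3, hN] at hNq
        have h5 : M ^ q = t • (1 : Mat) - M := by
          refine smul_right_injective Mat h2 ?_
          have h7 : (2 : F) • M ^ q = -((2 : F) • M - t • (1 : Mat)) + t • (1 : Mat) := by
            rw [← hNq, sub_add_cancel]
          change (2 : F) • M ^ q = (2 : F) • (t • (1 : Mat) - M)
          rw [h7]; module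
        refine Or.inr (Or.inr (scalar_mem_center _ d ?_))
        rw [Units.val_pow_eq_pow_val, ← hM, pow_succ, h5, sub_mul, smul_mul_assoc, one_mul, hCH]
        abel

/-- The spectrum of `PGL₂(q)`. -/
theorem range_orderOf [Fintype F] (p : ℕ) [Fact p.Prime] [CharP F p]
    (hq : p ≠ 2 ∨ Fintype.card F = 2) :
    Set.range (orderOf : GL (Fin 2) F ⧸ Subgroup.center (GL (Fin 2) F) → ℕ) =
      specSet p (Fintype.card F) := by
  classical
  set Z := Subgroup.center (GL (Fin 2) F) with hZ
  set q := Fintype.card F with hqdef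
  have h1q : 1 < q := Fintype.one_lt_card
  apply Set.eq_of_subset_of_subset
  · rintro _ ⟨x, rfl⟩
    obtain ⟨g, rfl⟩ := QuotientGroup.mk'_surjective Z x
    rcases pow_mem_center p hq g with h | h | h
    · exact Or.inl (orderOf_dvd_of_pow_eq_one ((mk_pow_eq_one_iff g _).mpr h))
    · exact Or.inr (Or.inl (orderOf_dvd_of_pow_eq_one ((mk_pow_eq_one_iff g _).mpr h)))
    · exact Or.inr (Or.inr (orderOf_dvd_of_pow_eq_one ((mk_pow_eq_one_iff g _).mpr h)))
  · intro d hd
    let U : GL (Fin 2) F := Matrix.GeneralLinearGroup.mkOfDetNeZero !![1, 1; 0, 1]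
      (by simp [Matrix.det_fin_two])
    suffices ∃ x : GL (Fin 2) F ⧸ Z, d ∣ orderOf x by
      obtain ⟨x, hx⟩ := this
      have ho : orderOf x ≠ 0 := (orderOf_pos x).ne'
      exact ⟨x ^ (orderOf x / d), orderOf_pow_orderOf_div ho hx⟩
    rcases hd with hd | hd | hd
    · refine ⟨QuotientGroup.mk' Z U, hd.trans (dvd_of_eq (Eq.symm ?_))⟩
      refine orderOf_eq_prime ((mk_pow_eq_one_iff U p).mpr (scalar_mem_center _ 1 ?_)) ?_
      · have hsq : ((U : Mat) - 1) * ((U : Mat) - 1) = 0 := by
          ext i j; fin_cases i <;> fin_cases j <;> simp [U, Matrix.mul_apply, Fin.sum_univ_two]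
        have h0 : ((U : Mat) - 1) ^ p = 0 := by
          have := (Fact.out : p.Prime).two_le
          rw [show p = 2 + (p - 2) by omega, pow_add, sq, hsq, zero_mul]
        rw [sub_pow_char_of_commute p (Commute.one_right _), one_pow, sub_eq_zero] at h0
        rw [Units.val_pow_eq_pow_val, h0, one_smul]
      · intro h
        have h1 := (QuotientGroup.eq_one_iff U).mp h
        have h2 := Subgroup.mem_center_iff.mp h1
          (Matrix.GeneralLinearGroup.mkOfDetNeZero !![1, 0; 1, 1] (by simp [Matrix.det_fin_two]))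
        have h3 := congrArg (fun u : GL (Fin 2) F => (u : Mat) 0 0) h2
        simp [U, Matrix.mul_apply, Fin.sum_univ_two] at h3
    · obtain ⟨ζ, hζ⟩ := IsCyclic.exists_generator (α := Fˣ)
      have hoζ : orderOf ζ = q - 1 := by
        rw [orderOf_eq_card_of_forall_mem_zpowers hζ, Nat.card_units, Nat.card_eq_fintype_card]
      let D : GL (Fin 2) F := Matrix.GeneralLinearGroup.mkOfDetNeZero !![(ζ : F), 0; 0, 1]
        (by simp [Matrix.det_fin_two])
      refine ⟨QuotientGroup.mk' Z D, hd.trans ?_⟩
      set o := orderOf (QuotientGroup.mk' Z D)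
      have ho : D ^ o ∈ Z := (mk_pow_eq_one_iff D o).mp (pow_orderOf_eq_one _)
      have hDk : ∀ k : ℕ, ((D ^ k : GL (Fin 2) F) : Mat) = !![(ζ : F) ^ k, 0; 0, 1] := by
        intro k
        induction k with
        | zero => simp [Matrix.one_fin_two]
        | succ k ih =>
          rw [pow_succ, Units.val_mul, ih]
          ext i j
          fin_cases i <;> fin_cases j <;> simp [D, pow_succ, Matrix.mul_apply, Fin.sum_univ_two]
      have h2 := Subgroup.mem_center_iff.mp ho U
      have h3 := congrArg (fun u : GL (Fin 2) F => (u : Mat) 0 1) h2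
      simp only [Units.val_mul, hDk] at h3
      simp [U, Matrix.mul_apply, Fin.sum_univ_two] at h3
      rw [← hoζ]
      exact orderOf_dvd_of_pow_eq_one (Units.ext (by simpa using h3.symm))
    · obtain ⟨x, hx⟩ := (KnownA.maxOrder_PGL (F := F) 2 (by norm_num)).2
      refine ⟨x, hd.trans (dvd_of_eq ?_)⟩
      have h5 : (q - 1) * orderOf x = (q - 1) * (q + 1) := by
        rw [hqdef, hx, Nat.mul_comm, ← Nat.sq_sub_sq, one_pow]
      exact (Nat.eq_of_mul_eq_mul_left (by omega) h5).symm

end Cfsg.Agent.Lib.SpecPGL
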