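import Mathlib
import Cfsg.Agent.Lib.SL2Trace.Basic
import Cfsg.Agent.Lib.SpecPGL.Semidirect
import Cfsg.Agent.Lib.SpecPGL.Spectrum

/-!
A module of `PSL₂(p)` over the field with two elements on which the elements of order `p` act
without fixed points and the semisimple elements have non-zero norms.
-/

set_option autoImplicit false

namespace Cfsg.Agent.Lib.SpecPGL

open Matrix SL2Trace

variable (p : ℕ) [Fact p.Prime]

/-- `PSL₂(p)`. -/
abbrev G2 : Type := Matrix.ProjectiveSpecialLinearGroup (Fin 2) (ZMod p)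

/-- The functions whose sums over all translates of all subgroups of order `p` vanish. -/
def radonKer : AddSubgroup (G2 p → ZMod 2) where
  carrier := {f | ∀ g h u : G2 p, orderOf u = p → ∑ i ∈ Finset.range p, f (g * u ^ i * h) = 0}
  add_mem' := by
    intro a b ha hb g h u hu
    simp only [Pi.add_apply, Finset.sum_add_distrib, ha g h u hu, hb g h u hu, add_zero]
  zero_mem' := by intro g h u _; simp
  neg_mem' := by
    intro a ha g h u hu
    simp only [Pi.neg_apply, Finset.sum_neg_distrib, ha g h u hu, neg_zero]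

/-- The module. -/
abbrev Mod : Type := ↥(radonKer p)

instance : SMul (G2 p) (Mod p) where
  smul x f := ⟨fun g => f.1 (x⁻¹ * g), fun g h u hu => by
    have := f.2 (x⁻¹ * g) h u hu
    simpa only [mul_assoc] using this⟩

theorem smul_val (x : G2 p) (f : Mod p) (g : G2 p) : (x • f).1 g = f.1 (x⁻¹ * g) := rfl

instance : DistribMulAction (G2 p) (Mod p) where
  one_smul f := Subtype.ext (funext fun g => by rw [smul_val, inv_one, one_mul])
  mul_smul x y f := Subtype.ext (funext fun g => by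
    rw [smul_val, smul_val, smul_val, _root_.mul_inv_rev, mul_assoc])
  smul_zero x := rfl
  smul_add x a b := rfl

theorem two_nsmul_eq_zero (f : Mod p) : 2 • f = 0 :=
  Subtype.ext (funext fun g => by
    show 2 • f.1 g = 0
    generalize f.1 g = z
    revert z; decide)

theorem fpf (hp2 : p ≠ 2) (u : G2 p) (hu : orderOf u = p) (f : Mod p) (h : u • f = f) : f = 0 := by
  refine Subtype.ext (funext fun g => ?_)
  have h1 : ∀ i : ℕ, f.1 (u ^ i * g) = f.1 g := by
    intro i
    induction i with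
    | zero => simp
    | succ i ih =>
      have h2 := congrFun (congrArg Subtype.val h) (u * (u ^ i * g))
      rw [smul_val, inv_mul_cancel_left, ← mul_assoc, ← pow_succ'] at h2
      rw [← h2, ih]
  have h2 := f.2 1 g u hu
  simp only [one_mul, h1, Finset.sum_const, Finset.card_range, nsmul_eq_mul] at h2
  have h3 : (p : ZMod 2) = 1 := by
    have hodd : Odd p := (Fact.out : p.Prime).odd_of_ne_two hp2
    exact (ZMod.natCast_eq_one_iff_odd).mpr hodd
  rw [h3, one_mul] at h2
  exact h2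

local notation "SL2p" => Matrix.SpecialLinearGroup (Fin 2) (ZMod p)
local notation "Mp" => Matrix (Fin 2) (Fin 2) (ZMod p)

open scoped Classical in
/-- The indicator of the elements with trace `±s`. -/
noncomputable def ind (s : ZMod p) (g : G2 p) : ZMod 2 :=
  if ∃ A : SL2p, toPSL A = g ∧ tr A = s then 1 else 0

theorem ind_toPSL (s : ZMod p) (A : SL2p) :
    ind p s (toPSL A) = if tr A = s ∨ tr A = -s then 1 else 0 := by
  unfold ind
  by_cases h : tr A = s ∨ tr A = -s
  · rw [if_pos h, if_pos]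
    rcases h with h | h
    · exact ⟨A, rfl, h⟩
    · exact ⟨-A, toPSL_neg A, by rw [tr_neg, h, neg_neg]⟩
  · rw [if_neg h, if_neg]
    rintro ⟨B, hB, hs⟩
    rcases tr_pm_of_toPSL_eq hB with h1 | h1
    · exact h (Or.inl (h1.trans hs))
    · exact h (Or.inr (by rw [h1, hs]))

theorem ind_conj (s : ZMod p) (h g : G2 p) : ind p s (h * g * h⁻¹) = ind p s g := by
  obtain ⟨A, rfl⟩ := toPSL_surjective g
  obtain ⟨B, rfl⟩ := toPSL_surjective h
  rw [← map_inv, ← map_mul, ← map_mul, ind_toPSL, ind_toPSL, tr_conj]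

variable {p}

/-- In `SL₂` of odd characteristic only `±1` square to `1`. -/
theorem eq_pm_of_sq {F : Type*} [Field F] (h2 : (2 : F) ≠ 0)
    (B : Matrix.SpecialLinearGroup (Fin 2) F) (h : B * B = 1) : B = 1 ∨ B = -1 := by
  have hB : B⁻¹ = B := inv_eq_of_mul_eq_one_left h
  have h' : ∀ i j, (B⁻¹ : Matrix.SpecialLinearGroup (Fin 2) F) i j = B i j := fun i j => by rw [hB]
  have h01 := h' 0 1
  have h10 := h' 1 0
  have h00 := h' 0 0
  simp only [Matrix.SpecialLinearGroup.coe_inv, Matrix.adjugate_fin_two] at h01 h10 h00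
  simp at h01 h10 h00
  refine eq_scalar_of_entries ?_ ?_ h00.symm
  · have : (2 : F) * B 1 0 = 0 := by linear_combination -h10
    exact (mul_eq_zero.mp this).resolve_left h2
  · have : (2 : F) * B 0 1 = 0 := by linear_combination -h01
    exact (mul_eq_zero.mp this).resolve_left h2

theorem two_ne (hp : 3 ≤ p) : (2 : ZMod p) ≠ 0 := by
  have h1 : ((2 : ℕ) : ZMod p) ≠ 0 := by
    rw [Ne, ZMod.natCast_eq_zero_iff]
    intro h
    have := Nat.le_of_dvd two_pos h
    omega
  simpa using h1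

/-- Every element of `PSL₂(p)` has order dividing `p` or `(p ± 1)/2`. -/
theorem pow_cases (hp : 3 ≤ p) (x : G2 p) :
    x ^ p = 1 ∨ x ^ ((p - 1) / 2) = 1 ∨ x ^ ((p + 1) / 2) = 1 := by
  obtain ⟨A, rfl⟩ := toPSL_surjective x
  have h2 := two_ne hp
  have hodd : p % 2 = 1 := ((Fact.out : p.Prime).eq_two_or_odd).resolve_left (by omega)
  have key : ∀ k : ℕ, A ^ (2 * k) = 1 → (toPSL A) ^ k = 1 := by
    intro k hk
    rw [← map_pow, toPSL_eq_one]
    exact eq_pm_of_sq h2 _ (by rw [← pow_add, ← two_mul, hk])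
  by_cases ht : tr A ^ 2 = 4
  · refine Or.inl ?_
    rw [← map_pow, toPSL_eq_one]
    exact pow_char_of_tr p ht
  · rcases pow_dichotomy ht with ⟨-, h⟩ | ⟨-, h⟩ <;> rw [ZMod.card] at h
    · exact Or.inr (Or.inl (key _ (by rw [show 2 * ((p - 1) / 2) = p - 1 by omega]; exact h)))
    · exact Or.inr (Or.inr (key _ (by rw [show 2 * ((p + 1) / 2) = p + 1 by omega]; exact h)))

/-- An element of order `p` lifts to `1 + N` with `N² = 0`. -/
theorem exists_unipotent (hp : 3 ≤ p) (u : G2 p) (hu : orderOf u = p) :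
    ∃ (A : SL2p) (N : Mp), toPSL A = u ∧ (A : Mp) = 1 + N ∧ N * N = 0 ∧ N ≠ 0 := by
  obtain ⟨A0, hA0⟩ := toPSL_surjective u
  have h1 : toPSL (A0 ^ p) = 1 := by rw [map_pow, hA0]; exact orderOf_dvd_iff_pow_eq_one.mp (dvd_of_eq hu)
  have hodd : Odd p := (Fact.out : p.Prime).odd_of_ne_two (by omega)
  obtain ⟨A, hA, hAp⟩ : ∃ A : SL2p, toPSL A = u ∧ A ^ p = 1 := by
    rcases toPSL_eq_one.mp h1 with h | h
    · exact ⟨A0, hA0, h⟩
    · exact ⟨-A0, by rw [toPSL_neg, hA0], by rw [hodd.neg_pow, h, neg_neg]⟩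
  have hA1 : A ≠ 1 := by
    rintro rfl
    rw [map_one] at hA
    rw [← hA, orderOf_one] at hu
    omega
  have ht : tr A ^ 2 = 4 := by
    by_contra ht
    have hcop : ∀ k : ℕ, Nat.Coprime p k → A ^ k = 1 → False := by
      intro k hk h
      refine hA1 (orderOf_eq_one_iff.mp ?_)
      exact Nat.eq_one_of_dvd_coprimes hk (orderOf_dvd_of_pow_eq_one hAp) (orderOf_dvd_of_pow_eq_one h)
    rcases pow_dichotomy ht with ⟨-, h⟩ | ⟨-, h⟩ <;> rw [ZMod.card] at h
    · refine hcop _ (((Fact.out : p.Prime).coprime_iff_not_dvd).mpr fun hd => ?_) h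
      have := Nat.le_of_dvd (by omega) hd
      omega
    · refine hcop _ (((Fact.out : p.Prime).coprime_iff_not_dvd).mpr fun hd => ?_) h
      have h1 : p ∣ 1 := (Nat.dvd_add_right dvd_rfl).mp hd
      have := Nat.le_of_dvd one_pos h1
      omega
  obtain ⟨ε, hε, hεt⟩ : ∃ ε : ZMod p, ε * ε = 1 ∧ tr A = 2 * ε := by
    have : (tr A - 2) * (tr A + 2) = 0 := by linear_combination ht
    rcases mul_eq_zero.mp this with h | h
    · exact ⟨1, one_mul 1, by linear_combination h⟩
    · exact ⟨-1, by ring, by linear_combination h⟩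
  have hN : ((A : Mp) - ε • 1) * ((A : Mp) - ε • 1) = 0 := by
    rw [Matrix.sub_mul, Matrix.mul_sub, Matrix.mul_sub, sq_eq A, hεt]
    simp [smul_smul, hε, two_mul, add_smul]
    abel
  have h0 : ((A : Mp) - ε • 1) ^ p = 0 :=
    pow_eq_zero_of_le (show 2 ≤ p by omega) (by rw [sq, hN])
  rw [sub_pow_char_of_commute p ((Commute.one_right _).smul_right ε), smul_pow, one_pow,
    ← Matrix.SpecialLinearGroup.coe_pow, hAp, Matrix.SpecialLinearGroup.coe_one, sub_eq_zero,
    ZMod.pow_card] at h0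
  have hε1 : ε = 1 := by
    have := congrFun (congrFun h0 0) 0
    simpa using this.symm
  subst hε1
  rw [one_smul] at hN
  refine ⟨A, (A : Mp) - 1, hA, by abel, hN, fun h => hA1 (Subtype.ext ?_)⟩
  rw [sub_eq_zero] at h
  simpa using h

/-- An element commuting suitably with a nilpotent matrix has split trace. -/
theorem root_of_trace_mul_eq_zero {F : Type*} [Field F] (B : Matrix.SpecialLinearGroup (Fin 2) F)
    (N : Matrix (Fin 2) (Fin 2) F) (hN : N * N = 0) (hN0 : N ≠ 0)
    (hc : ((B : Matrix (Fin 2) (Fin 2) F) * N).trace = 0) :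
    ∃ r : F, r ^ 2 - tr B * r + 1 = 0 := by
  have hd := det_eq B
  have e00 := congrFun (congrFun hN 0) 0
  have e01 := congrFun (congrFun hN 0) 1
  have e10 := congrFun (congrFun hN 1) 0
  have e11 := congrFun (congrFun hN 1) 1
  simp [Matrix.mul_apply, Fin.sum_univ_two] at e00 e01 e10 e11
  simp [Matrix.trace_fin_two, Matrix.mul_apply, Fin.sum_univ_two] at hc
  rw [tr_eq]
  by_cases hβ : N 0 1 = 0
  · have h00 : N 0 0 = 0 := by
      rw [hβ, zero_mul, add_zero] at e00
      exact mul_self_eq_zero.mp e00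
    have h11 : N 1 1 = 0 := by
      rw [hβ, mul_zero, zero_add] at e11
      exact mul_self_eq_zero.mp e11
    have h10 : N 1 0 ≠ 0 := by
      intro h
      exact hN0 (by ext i j; fin_cases i <;> fin_cases j <;> simp [h00, h11, hβ, h])
    rw [h00, h11, hβ, mul_zero, mul_zero, mul_zero, zero_add, add_zero, add_zero] at hc
    have hv : B 0 1 = 0 := (mul_eq_zero.mp hc).resolve_right h10
    refine ⟨B 0 0, ?_⟩
    rw [hv, zero_mul, sub_zero] at hd
    linear_combination -hd
  · have htr : N 1 1 = - N 0 0 := by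
      have : N 0 1 * (N 0 0 + N 1 1) = 0 := by linear_combination e01
      have := (mul_eq_zero.mp this).resolve_left hβ
      linear_combination this
    rw [htr] at hc
    refine ⟨(B 0 0 * N 0 1 - B 0 1 * N 0 0) / N 0 1, ?_⟩
    field_simp
    linear_combination B 0 1 ^ 2 * e00 - N 0 1 ^ 2 * hd - B 0 1 * N 0 1 * hc

theorem sum_ind (hp : 3 ≤ p) (s : ZMod p) (hs0 : s ≠ 0)
    (hsr : ¬ ∃ r : ZMod p, r ^ 2 - s * r + 1 = 0) (g u : G2 p) (hu : orderOf u = p) :
    ∑ i ∈ Finset.range p, ind p s (g * u ^ i) = 0 := by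
  classical
  obtain ⟨B, rfl⟩ := toPSL_surjective g
  obtain ⟨A, N, rfl, hA, hN, hN0⟩ := exists_unipotent hp u hu
  have hApow : ∀ i : ℕ, ((A ^ i : SL2p) : Mp) = 1 + (i : ZMod p) • N := by
    intro i
    induction i with
    | zero => simp
    | succ i ih =>
      rw [pow_succ, Matrix.SpecialLinearGroup.coe_mul, ih, hA, add_mul, one_mul, smul_mul_assoc,
        mul_add, mul_one, hN, add_zero, Nat.cast_succ, add_smul, one_smul]
      abel
  set c := ((B : Mp) * N).trace with hc
  have htr : ∀ i : ℕ, tr (B * A ^ i) = tr B + (i : ZMod p) * c := by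
    intro i
    rw [tr, Matrix.SpecialLinearGroup.coe_mul, hApow, mul_add, mul_one, Matrix.trace_add,
      mul_smul_comm, Matrix.trace_smul, smul_eq_mul, hc, tr]
  let f : ZMod p → ZMod 2 := fun τ => if τ = s ∨ τ = -s then 1 else 0
  have hterm : ∀ i : ℕ, ind p s (toPSL B * toPSL A ^ i) = f (tr B + (i : ZMod p) * c) := by
    intro i
    rw [← map_pow, ← map_mul, ind_toPSL, htr]
  simp only [hterm]
  have hbij : ∑ i ∈ Finset.range p, f (tr B + (i : ZMod p) * c) =
      ∑ a : ZMod p, f (tr B + a * c) := by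
    refine Finset.sum_nbij' (fun i => (i : ZMod p)) ZMod.val ?_ ?_ ?_ ?_ ?_
    · intro i _; simp
    · intro a _; exact Finset.mem_range.mpr (ZMod.val_lt a)
    · intro i hi; exact ZMod.val_cast_of_lt (Finset.mem_range.mp hi)
    · intro a _; exact ZMod.natCast_zmod_val a
    · intro i _; rfl
  rw [hbij]
  by_cases hc0 : c = 0
  · have hf : f (tr B) = 0 := by
      refine if_neg ?_
      obtain ⟨r, hr⟩ := root_of_trace_mul_eq_zero B N hN hN0 hc0
      rintro (h | h)
      · exact hsr ⟨r, by rwa [h] at hr⟩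
      · exact hsr ⟨-r, by rw [h] at hr; linear_combination hr⟩
    simp [hc0, hf]
  · let e : ZMod p ≃ ZMod p := (Equiv.mulRight₀ c hc0).trans (Equiv.addLeft (tr B))
    have : ∑ a : ZMod p, f (tr B + a * c) = ∑ τ : ZMod p, f τ :=
      Equiv.sum_comp e f
    rw [this]
    simp only [f, Finset.sum_boole]
    have hset : (Finset.univ.filter fun τ : ZMod p => τ = s ∨ τ = -s) = {s, -s} := by
      ext τ; simp
    have hne : s ≠ -s := fun h => hs0 (by
      have h3 : (2 : ZMod p) * s = 0 := by linear_combination h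
      exact (mul_eq_zero.mp h3).resolve_left (two_ne hp))
    rw [hset, Finset.card_pair hne]
    rfl

/-- The indicator as an element of the module. -/
noncomputable def indMem (hp : 3 ≤ p) (s : ZMod p) (hs0 : s ≠ 0)
    (hsr : ¬ ∃ r : ZMod p, r ^ 2 - s * r + 1 = 0) : Mod p :=
  ⟨ind p s, fun g h u hu => by
    have : ∀ i, ind p s (g * u ^ i * h) = ind p s (h * g * u ^ i) := fun i => by
      rw [← ind_conj p s h (g * u ^ i * h)]
      group
    rw [Finset.sum_congr rfl fun i _ => this i]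
    exact sum_ind hp s hs0 hsr (h * g) u hu⟩

/-- For a semisimple element some translate of the indicator has norm one. -/
theorem exists_norm_one (hp : 3 ≤ p) (s : ZMod p) (hs0 : s ≠ 0) (hs4 : s ^ 2 ≠ 4) (A : SL2p)
    (hA : tr A ^ 2 ≠ 4) :
    ∃ g : G2 p, ∑ i ∈ Finset.range (orderOf (toPSL A)), ind p s ((toPSL A) ^ i * g) = 1 := by
  obtain ⟨C, hC⟩ := isConj_iff.mp (isConj_comp hA)
  set γ := tr A with hγ
  set D := s ^ 2 / 4 - 1 with hD
  have h2 := two_ne hp
  have h4 : (4 : ZMod p) ≠ 0 := by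
    rw [show (4 : ZMod p) = 2 * 2 by norm_num]; exact mul_ne_zero h2 h2
  have hD0 : D ≠ 0 := by
    intro h
    refine hs4 ?_
    rw [hD, sub_eq_zero, div_eq_one_iff_eq h4] at h
    exact h
  obtain ⟨e, w, hew⟩ := exists_binary_eq_one D⁻¹ (-γ / D) (-D⁻¹) (by
    have : (-γ / D) ^ 2 + 4 * D⁻¹ * -D⁻¹ = (γ ^ 2 - 4) / D ^ 2 := by field_simp; ring
    rw [this]
    exact div_ne_zero (sub_ne_zero.mpr hA) (pow_ne_zero _ hD0))
  have hew' : e ^ 2 - γ * e * w + w ^ 2 = D := by
    field_simp at hew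
    linear_combination hew
  let g0 : SL2p := ⟨!![s / 2 - e, w - γ * e; w, s / 2 + e], by
    rw [Matrix.det_fin_two]
    simp
    rw [hD] at hew'
    field_simp at hew' ⊢
    linear_combination -hew'⟩
  set k := orderOf (toPSL A)
  refine ⟨toPSL (C * g0 * C⁻¹), ?_⟩
  have hci : ∀ i : ℕ, ind p s ((toPSL A) ^ i * toPSL (C * g0 * C⁻¹)) =
      ind p s (toPSL (SL2Trace.comp γ ^ i * g0)) := by
    intro i
    rw [← hC, ← map_pow, ← map_mul, conj_pow,
      show C * SL2Trace.comp γ ^ i * C⁻¹ * (C * g0 * C⁻¹) = C * (SL2Trace.comp γ ^ i * g0) * C⁻¹ by group,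
      map_mul, map_mul, map_inv, ind_conj]
  have hab : ∀ i : ℕ, ∃ a b : ZMod p, ((SL2Trace.comp γ ^ i : SL2p) : Mp) = !![a, -b; b, a + γ * b] := by
    intro i
    induction i with
    | zero => exact ⟨1, 0, by simp [Matrix.one_fin_two]⟩
    | succ i ih =>
      obtain ⟨a, b, h⟩ := ih
      refine ⟨-b, a + γ * b, ?_⟩
      rw [pow_succ, Matrix.SpecialLinearGroup.coe_mul, h]
      ext x y
      fin_cases x <;> fin_cases y <;>
        simp [SL2Trace.comp, Matrix.mul_apply, Fin.sum_univ_two] <;> ring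
  have hk0 : 0 < k := orderOf_pos _
  have hcond : ∀ i < k, ind p s (toPSL (SL2Trace.comp γ ^ i * g0)) = if i = 0 then 1 else 0 := by
    intro i hi
    rw [ind_toPSL]
    obtain ⟨a, b, h⟩ := hab i
    have hdet := det_eq (SL2Trace.comp γ ^ i)
    rw [h] at hdet
    simp at hdet
    have htr : tr (SL2Trace.comp γ ^ i * g0) = s * (a + γ * b / 2) := by
      rw [tr, Matrix.SpecialLinearGroup.coe_mul, h]
      simp [g0, Matrix.trace_fin_two, Matrix.mul_apply, Fin.sum_univ_two]
      field_simp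
      ring
    rw [htr]
    by_cases hi0 : i = 0
    · subst hi0
      rw [pow_zero, Matrix.SpecialLinearGroup.coe_one] at h
      have ha := congrFun (congrFun h 0) 0
      have hb := congrFun (congrFun h 1) 0
      simp at ha hb
      rw [if_pos rfl, if_pos]
      left
      rw [← ha, ← hb]; ring
    · rw [if_neg hi0, if_neg]
      intro hor
      have hsq : (a + γ * b / 2) ^ 2 = 1 := by
        have h5 : (s * (a + γ * b / 2)) ^ 2 = s ^ 2 := by
          rcases hor with h5 | h5 <;> rw [h5]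
          ring
        rw [mul_pow] at h5
        exact mul_left_cancel₀ (pow_ne_zero 2 hs0) (by rw [h5, mul_one])
      have hb : b = 0 := by
        have h5 : (γ ^ 2 - 4) * b ^ 2 = 0 := by
          field_simp at hsq
          linear_combination hsq - 4 * hdet
        exact pow_eq_zero_iff two_ne_zero |>.mp
          ((mul_eq_zero.mp h5).resolve_left (sub_ne_zero.mpr hA))
      have h1 : SL2Trace.comp γ ^ i = 1 ∨ SL2Trace.comp γ ^ i = -1 := by
        apply eq_scalar_of_entries
        · rw [h]; simpa using hb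
        · rw [h]; simpa using hb
        · rw [h]; simp [hb]
      have h6 : (toPSL A) ^ i = 1 := by
        rw [← hC, ← map_pow, conj_pow, map_mul, map_mul, toPSL_eq_one.mpr h1, mul_one, map_inv,
          mul_inv_cancel]
      exact pow_ne_one_of_lt_orderOf hi0 hi h6
  rw [Finset.sum_congr rfl (fun i hi => (hci i).trans (hcond i (Finset.mem_range.mp hi))),
    Finset.sum_ite_eq' (Finset.range k) 0 (fun _ => (1 : ZMod 2)),
    if_pos (Finset.mem_range.mpr hk0)]

/-- Elements of orders `(p ± 1)/2`. -/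
theorem exists_semisimple (hp : 5 ≤ p) {n : ℕ} (hn : n ∈ specSet p p) (hn2 : 2 * 2 ≤ n)
    (hne : n % 2 = 0) :
    ∃ A : SL2p, tr A ^ 2 ≠ 4 ∧ orderOf (toPSL A) = n / 2 := by
  have h2 := two_ne (p := p) (by omega)
  have hn' : n ∈ Set.range
      (orderOf : GL (Fin 2) (ZMod p) ⧸ Subgroup.center (GL (Fin 2) (ZMod p)) → ℕ) := by
    rw [range_orderOf p (Or.inl (by omega)), ZMod.card]; exact hn
  · obtain ⟨x, hx⟩ := hn'
    obtain ⟨g, rfl⟩ := QuotientGroup.mk'_surjective _ x
    set M : Mp := (g : Mp) with hM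
    set d := M.det with hd
    have hd0 : d ≠ 0 := Matrix.GeneralLinearGroup.det_ne_zero g
    let A : SL2p := ⟨d⁻¹ • (M * M), by
      rw [Matrix.det_smul, Matrix.det_mul, ← hd, Fintype.card_fin]; field_simp⟩
    have hApow : ∀ j : ℕ, ((A ^ j : SL2p) : Mp) =
        (d⁻¹) ^ j • ((g ^ (2 * j) : GL (Fin 2) (ZMod p)) : Mp) := by
      intro j
      rw [Matrix.SpecialLinearGroup.coe_pow, Units.val_pow_eq_pow_val, pow_mul, sq]
      exact smul_pow d⁻¹ (M * M) j
    have hiff : ∀ j : ℕ, toPSL (A ^ j) = 1 ↔ n / 2 ∣ j := by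
      intro j
      have hiff2 : n / 2 ∣ j ↔ n ∣ 2 * j := by
        obtain ⟨m, hm⟩ : ∃ m, n = 2 * m := ⟨n / 2, by omega⟩
        subst hm
        rw [Nat.mul_div_cancel_left m two_pos, Nat.mul_dvd_mul_iff_left two_pos]
      rw [toPSL_eq_one, hiff2, ← hx, orderOf_dvd_iff_pow_eq_one, mk_pow_eq_one_iff]
      constructor
      · intro h
        obtain ⟨c, hc⟩ : ∃ c : ZMod p, ((A ^ j : SL2p) : Mp) = c • 1 := by
          rcases h with h | h <;> rw [h]
          · exact ⟨1, by simp⟩
          · exact ⟨-1, by simp⟩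
        refine scalar_mem_center _ (d ^ j * c) ?_
        rw [mul_smul, ← hc, hApow, smul_smul, ← mul_pow, mul_inv_cancel₀ hd0, one_pow, one_smul]
      · intro h
        rw [Matrix.GeneralLinearGroup.center_eq_range_scalar] at h
        obtain ⟨c, hc⟩ := h
        have hmat : ((A ^ j : SL2p) : Mp) = ((d⁻¹) ^ j * (c : ZMod p)) • 1 := by
          rw [hApow, ← hc, mul_smul]
          congr 1
          ext x y; fin_cases x <;> fin_cases y <;>
            simp [Matrix.GeneralLinearGroup.scalar]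
        apply eq_scalar_of_entries <;> rw [hmat] <;> simp
    have ho : orderOf (toPSL A) = n / 2 := by
      refine Nat.dvd_antisymm (orderOf_dvd_of_pow_eq_one (by rw [← map_pow, hiff])) ?_
      rw [← hiff, map_pow, pow_orderOf_eq_one]
    refine ⟨A, fun ht => ?_, ho⟩
    have h1 : n / 2 ∣ p := by
      rw [← ho]
      refine orderOf_dvd_of_pow_eq_one ?_
      rw [← map_pow, toPSL_eq_one]
      exact pow_char_of_tr p ht
    rcases (Nat.dvd_prime Fact.out).mp h1 with h | h
    · omega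
    · have h3 : orderOf (QuotientGroup.mk' (Subgroup.center (GL (Fin 2) (ZMod p))) g) = 2 * p := by omega
      have h4 : orderOf (QuotientGroup.mk' (Subgroup.center (GL (Fin 2) (ZMod p))) g) ∈
          Set.range (orderOf : GL (Fin 2) (ZMod p) ⧸ Subgroup.center (GL (Fin 2) (ZMod p)) → ℕ) :=
        ⟨_, rfl⟩
      rw [range_orderOf p (Or.inl (by omega)), ZMod.card, h3] at h4
      rcases h4 with h4 | h4 | h4 <;>
        · have := Nat.le_of_dvd (by omega) h4
          omega

/-- The groups for prime `p ≥ 5`. -/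
theorem exists_large (hp : 5 ≤ p) (N : ℕ) :
    N < Nat.card (Ext (G2 p) (Mod p) (Fin (N + 1))) ∧
      Set.range (orderOf : Ext (G2 p) (Mod p) (Fin (N + 1)) → ℕ) = specSet p p := by
  classical
  have hodd : p % 2 = 1 := ((Fact.out : p.Prime).eq_two_or_odd).resolve_left (by omega)
  obtain ⟨A₁, hA₁, hoA₁⟩ := exists_semisimple hp (n := p + 1) (Or.inr (Or.inr dvd_rfl))
    (by omega) (by omega)
  obtain ⟨A₂, hA₂, hoA₂⟩ := exists_semisimple hp (n := p - 1) (Or.inr (Or.inl dvd_rfl))
    (by omega) (by omega)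
  set s := tr A₁ with hs
  have hs0 : s ≠ 0 := by
    intro h0
    have hsq := sq_eq A₁
    rw [← hs, h0, zero_smul, zero_sub] at hsq
    have h1 : toPSL A₁ ^ 2 = 1 := by
      rw [← map_pow, toPSL_eq_one]
      right
      exact Subtype.ext (by rw [Matrix.SpecialLinearGroup.coe_pow, sq]; simpa using hsq)
    have := Nat.le_of_dvd two_pos (orderOf_dvd_of_pow_eq_one h1)
    omega
  have hsr : ¬ ∃ r : ZMod p, r ^ 2 - s * r + 1 = 0 := by
    rcases pow_dichotomy hA₁ with ⟨-, h⟩ | ⟨h, -⟩
    · exfalso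
      rw [ZMod.card] at h
      have h1 : toPSL A₁ ^ ((p - 1) / 2) = 1 := by
        rw [← map_pow, toPSL_eq_one]
        refine eq_pm_of_sq (two_ne (by omega)) _ ?_
        rw [← pow_add, show (p - 1) / 2 + (p - 1) / 2 = p - 1 by omega, h]
      have := Nat.le_of_dvd (by omega) (orderOf_dvd_of_pow_eq_one h1)
      omega
    · exact h
  let φ : Mod p := indMem (by omega) s hs0 hsr
  have hwit : ∀ A : SL2p, tr A ^ 2 ≠ 4 → ∀ ι : Type, Nonempty ι →
      ∃ x : Ext (G2 p) (Mod p) ι, orderOf x = 2 * orderOf (toPSL A) := by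
    intro A hA ι ⟨j⟩
    obtain ⟨g, hg⟩ := exists_norm_one (by omega) s hs0 hA₁ A hA
    set r := toPSL A with hr
    have hg' : ∑ i ∈ Finset.range (orderOf r), φ.1 (r ^ i * g) = 1 := hg
    refine ⟨⟨Multiplicative.ofAdd fun _ => φ, r⁻¹⟩, ?_⟩
    set x : Ext (G2 p) (Mod p) ι := ⟨Multiplicative.ofAdd fun _ => φ, r⁻¹⟩
    have h1 : orderOf r ∣ orderOf x := by
      rw [← orderOf_inv]
      exact orderOf_map_dvd SemidirectProduct.rightHom x
    have h2 : orderOf x ∣ orderOf r * 2 := orderOf_dvd_of_pow_eq_one (pow_mul_eq_one x _ 2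
      (by show r⁻¹ ^ orderOf r = 1; rw [inv_pow, pow_orderOf_eq_one, inv_one])
      (two_nsmul_eq_zero p))
    have h3 : ¬ orderOf x ∣ orderOf r := by
      intro h
      have h4 := ((pow_eq_one_iff x _).mp (orderOf_dvd_iff_pow_eq_one.mp h)).2
      have h5 := congrArg (fun f : Mod p => f.1 g) (congrFun h4 j)
      simp only [Finset.sum_apply, AddSubgroup.val_finset_sum] at h5
      rw [Finset.sum_congr rfl (fun i _ => show _ = φ.1 (r ^ i * g) from ?_), hg'] at h5
      · exact one_ne_zero h5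
      · show φ.1 ((r⁻¹ ^ i)⁻¹ * g) = _
        rw [inv_pow, inv_inv]
    obtain ⟨c, hc⟩ := h1
    have hk : 0 < orderOf r := orderOf_pos r
    rw [hc] at h2 h3 ⊢
    have h6 : c ∣ 2 := (Nat.mul_dvd_mul_iff_left hk).mp h2
    rcases (Nat.dvd_prime Nat.prime_two).mp h6 with h7 | h7
    · exact absurd (by rw [h7, mul_one]) h3
    · rw [h7, mul_comm]
  haveI : Nontrivial (Mod p) := by
    obtain ⟨g, hg⟩ := exists_norm_one (p := p) (by omega) s hs0 hA₁ A₁ hA₁
    refine ⟨⟨φ, 0, fun h => ?_⟩⟩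
    have h' : ∀ z, ind p s z = 0 := fun z => congrArg (fun f : Mod p => f.1 z) h
    simp [h'] at hg
  refine ⟨card_ext_gt N, Set.eq_of_subset_of_subset ?_ ?_⟩
  · rintro _ ⟨x, rfl⟩
    by_cases hu : orderOf x.right = p
    · exact Or.inl (orderOf_dvd_of_pow_eq_one (pow_eq_one_of_fpf x p
        (orderOf_dvd_iff_pow_eq_one.mp (dvd_of_eq hu)) (fpf p (by omega) _ hu)))
    · rcases pow_cases (by omega) x.right with h | h | h
      · have h1 : x.right = 1 := orderOf_eq_one_iff.mp
          (((Nat.dvd_prime Fact.out).mp (orderOf_dvd_of_pow_eq_one h)).resolve_right hu)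
        refine Or.inr (Or.inl ?_)
        have h2 := pow_mul_eq_one x 1 2 (by rw [pow_one, h1]) (two_nsmul_eq_zero p)
        exact (orderOf_dvd_of_pow_eq_one h2).trans (by omega)
      · exact Or.inr (Or.inl ((orderOf_dvd_of_pow_eq_one (pow_mul_eq_one x _ 2 h
          (two_nsmul_eq_zero p))).trans (dvd_of_eq (by omega))))
      · exact Or.inr (Or.inr ((orderOf_dvd_of_pow_eq_one (pow_mul_eq_one x _ 2 h
          (two_nsmul_eq_zero p))).trans (dvd_of_eq (by omega))))
  · intro d hd
    suffices ∃ x : Ext (G2 p) (Mod p) (Fin (N + 1)), d ∣ orderOf x by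
      obtain ⟨x, hx⟩ := this
      have ho : orderOf x ≠ 0 := (orderOf_pos x).ne'
      exact ⟨x ^ (orderOf x / d), orderOf_pow_orderOf_div ho hx⟩
    rcases hd with hd | hd | hd
    · obtain ⟨u, hu⟩ := exists_prime_orderOf_dvd_card' (G := G2 p) p (by
        let U : SL2p := ⟨!![1, 1; 0, 1], by simp [Matrix.det_fin_two]⟩
        refine Dvd.dvd.trans (dvd_of_eq (Eq.symm (orderOf_eq_prime ?_ ?_))) (orderOf_dvd_natCard (toPSL U))
        · rw [← map_pow, toPSL_eq_one]
          refine pow_char_of_tr p ?_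
          simp [tr, U, Matrix.trace_fin_two]; norm_num
        · intro h
          rcases toPSL_eq_one.mp h with h | h <;>
            · have h5 := congrArg (fun B : SL2p => (B : Mp) 0 1) h
              simp [U] at h5)
      exact ⟨SemidirectProduct.inr u, by rw [orderOf_inr, hu]; exact hd⟩
    · obtain ⟨x, hx⟩ := hwit A₂ hA₂ (Fin (N + 1)) inferInstance
      exact ⟨x, hd.trans (dvd_of_eq (by rw [hx, hoA₂]; omega))⟩
    · obtain ⟨x, hx⟩ := hwit A₁ hA₁ (Fin (N + 1)) inferInstance
      exact ⟨x, hd.trans (dvd_of_eq (by rw [hx, hoA₁]; omega))⟩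

end Cfsg.Agent.Lib.SpecPGL
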