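import Mathlib
import Cfsg.Agent.Lib.SpecPGL.Semidirect
import Cfsg.Agent.Lib.SpecPGL.Spectrum

/-!
Frobenius groups with the spectra of `PGL₂(2)`, `PGL₂(3)` and `PGL₂(9)`.
-/

set_option autoImplicit false

namespace Cfsg.Agent.Lib.SpecPGL

open Matrix

local instance : Fact (Nat.Prime 3) := ⟨Nat.prime_three⟩

instance mulVecAction (d : ℕ) :
    DistribMulAction (Matrix (Fin d) (Fin d) (ZMod 3))ˣ (Fin d → ZMod 3) where
  smul c w := (c : Matrix (Fin d) (Fin d) (ZMod 3)) *ᵥ w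
  one_smul w := Matrix.one_mulVec w
  mul_smul c e w := (Matrix.mulVec_mulVec w _ _).symm
  smul_zero c := Matrix.mulVec_zero _
  smul_add c v w := Matrix.mulVec_add _ v w

theorem units_smul_eq {d : ℕ} (c : (Matrix (Fin d) (Fin d) (ZMod 3))ˣ) (w : Fin d → ZMod 3) :
    c • w = (c : Matrix (Fin d) (Fin d) (ZMod 3)) *ᵥ w := rfl

theorem three_smul {d : ℕ} (w : Fin d → ZMod 3) : 3 • w = 0 :=
  funext fun i => by simp [nsmul_eq_mul, show (3 : ZMod 3) = 0 from rfl]

/-- The general step for the small cases. -/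
theorem frob_spec {C W : Type} [Group C] [AddCommGroup W] [DistribMulAction C W] [Finite C]
    [Finite W] [Nontrivial W] (r a b : ℕ) [Fact r.Prime] (hr : ∀ w : W, r • w = 0)
    (hfpf : ∀ c : C, c ≠ 1 → ∀ w : W, c • w = w → w = 0)
    (hall : ∀ c : C, c ^ a = 1 ∨ c ^ b = 1)
    (ha : ∃ c : C, orderOf c = a) (hb : ∃ c : C, orderOf c = b) (N : ℕ) :
    N < Nat.card (Ext C W (Fin (N + 1))) ∧
      Set.range (orderOf : Ext C W (Fin (N + 1)) → ℕ) = {d | d ∣ r ∨ d ∣ a ∨ d ∣ b} := by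
  refine ⟨card_ext_gt N, ?_⟩
  rw [range_orderOf_fpf r hr hfpf]
  ext d
  constructor
  · rintro (hd | ⟨c, rfl⟩)
    · exact Or.inl hd
    · exact Or.inr ((hall c).imp orderOf_dvd_of_pow_eq_one orderOf_dvd_of_pow_eq_one)
  · rintro (hd | hd | hd)
    · exact Or.inl hd
    · obtain ⟨c, hc⟩ := ha
      exact Or.inr ⟨c ^ (orderOf c / d), orderOf_pow_orderOf_div (orderOf_pos c).ne' (hc ▸ hd)⟩
    · obtain ⟨c, hc⟩ := hb
      exact Or.inr ⟨c ^ (orderOf c / d), orderOf_pow_orderOf_div (orderOf_pos c).ne' (hc ▸ hd)⟩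

theorem spec_two (N : ℕ) : ∃ (H : Type) (_ : Group H) (_ : Fintype H), N < Fintype.card H ∧
    Set.range (orderOf : H → ℕ) = specSet 2 2 := by
  classical
  obtain ⟨h1, h2⟩ := frob_spec (C := ℤˣ) (W := ZMod 3) 3 2 1 (by decide) (by decide)
    (fun c => Or.inl (by revert c; decide))
    ⟨-1, orderOf_eq_prime (by decide) (by decide)⟩ ⟨1, orderOf_one⟩ N
  haveI := Fintype.ofFinite (Ext ℤˣ (ZMod 3) (Fin (N + 1)))
  refine ⟨Ext ℤˣ (ZMod 3) (Fin (N + 1)), inferInstance, inferInstance,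
    by rwa [← Nat.card_eq_fintype_card], ?_⟩
  rw [h2]
  ext d
  show d ∣ 3 ∨ d ∣ 2 ∨ d ∣ 1 ↔ d ∣ 2 ∨ d ∣ 1 ∨ d ∣ 3
  tauto

/-- The quarter turn. -/
def quarter : (Matrix (Fin 2) (Fin 2) (ZMod 3))ˣ where
  val := !![0, 2; 1, 0]
  inv := !![0, 1; 2, 0]
  val_inv := by decide
  inv_val := by decide

theorem spec_three (N : ℕ) : ∃ (H : Type) (_ : Group H) (_ : Fintype H), N < Fintype.card H ∧
    Set.range (orderOf : H → ℕ) = specSet 3 3 := by
  classical
  have h4 : quarter ^ 4 = 1 := by decide +kernel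
  have ho : orderOf quarter = 4 := orderOf_eq_prime_pow (p := 2) (n := 1) (by decide +kernel) h4
  have hmem : ∀ c : ↥(Subgroup.zpowers quarter), ∃ i < 4, quarter ^ i = (c : (Matrix (Fin 2) (Fin 2) (ZMod 3))ˣ) := by
    intro c
    obtain ⟨i, hi⟩ := mem_powers_iff_mem_zpowers.mpr c.2
    exact ⟨i % 4, Nat.mod_lt _ (by norm_num), by rw [← ho, pow_mod_orderOf]; exact hi⟩
  have hfix : ∀ i < 4, i ≠ 0 → ∀ w : Fin 2 → ZMod 3, quarter ^ i • w = w → w = 0 := by
    simp only [units_smul_eq]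
    decide +kernel
  obtain ⟨h1, h2⟩ := frob_spec (C := ↥(Subgroup.zpowers quarter)) (W := Fin 2 → ZMod 3) 3 4 2
    three_smul
    (fun c hc w hw => by
      obtain ⟨i, hi, hic⟩ := hmem c
      refine hfix i hi (fun h0 => hc (Subtype.ext (by rw [← hic, h0, pow_zero]; rfl))) w ?_
      rw [hic]; exact hw)
    (fun c => Or.inl (Subtype.ext (by
      obtain ⟨i, -, hic⟩ := hmem c
      rw [SubmonoidClass.coe_pow, ← hic, ← pow_mul, mul_comm, pow_mul, h4, one_pow]; rfl)))
    ⟨⟨quarter, Subgroup.mem_zpowers _⟩, by rw [← Subgroup.orderOf_coe]; exact ho⟩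
    ⟨⟨quarter ^ 2, Subgroup.npow_mem_zpowers _ _⟩, by
      rw [← Subgroup.orderOf_coe]; exact orderOf_eq_prime (by decide +kernel) (by decide +kernel)⟩ N
  haveI := Fintype.ofFinite (Ext ↥(Subgroup.zpowers quarter) (Fin 2 → ZMod 3) (Fin (N + 1)))
  refine ⟨Ext ↥(Subgroup.zpowers quarter) (Fin 2 → ZMod 3) (Fin (N + 1)), inferInstance,
    inferInstance, by rwa [← Nat.card_eq_fintype_card], ?_⟩
  rw [h2]
  ext d
  show d ∣ 3 ∨ d ∣ 4 ∨ d ∣ 2 ↔ d ∣ 3 ∨ d ∣ 2 ∨ d ∣ 4
  exact or_congr_right Or.comm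

/-- Multiplication by a fifth root of unity on the field with 81 elements. -/
def rootFive : (Matrix (Fin 4) (Fin 4) (ZMod 3))ˣ where
  val := !![0, 0, 0, 2; 1, 0, 0, 2; 0, 1, 0, 2; 0, 0, 1, 2]
  inv := !![2, 1, 0, 0; 2, 0, 1, 0; 2, 0, 0, 1; 2, 0, 0, 0]
  val_inv := by decide +kernel
  inv_val := by decide +kernel

/-- A semilinear map with fourth power `-1`. -/
def semiFour : (Matrix (Fin 4) (Fin 4) (ZMod 3))ˣ where
  val := !![0, 1, 1, 0; 0, 2, 1, 1; 1, 0, 1, 2; 2, 0, 2, 0]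
  inv := -(!![0, 1, 1, 0; 0, 2, 1, 1; 1, 0, 1, 2; 2, 0, 2, 0] *
    !![1, 2, 2, 0; 0, 1, 2, 1; 2, 1, 0, 2; 2, 2, 1, 1])
  val_inv := by decide +kernel
  inv_val := by decide +kernel

theorem semiFour_sq : ((semiFour ^ 2 : (Matrix (Fin 4) (Fin 4) (ZMod 3))ˣ) : Matrix (Fin 4) (Fin 4) (ZMod 3)) =
    !![1, 2, 2, 0; 0, 1, 2, 1; 2, 1, 0, 2; 2, 2, 1, 1] := by decide +kernel

theorem semiFour_four : semiFour ^ 4 = -1 := by
  refine Units.ext ?_
  rw [show semiFour ^ 4 = (semiFour ^ 2) ^ 2 from pow_mul semiFour 2 2, Units.val_pow_eq_pow_val,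
    semiFour_sq]
  decide +kernel

theorem rootFive_five : rootFive ^ 5 = 1 := by
  have h2 : ((rootFive ^ 2 : (Matrix (Fin 4) (Fin 4) (ZMod 3))ˣ) : Matrix (Fin 4) (Fin 4) (ZMod 3)) =
      !![0, 0, 2, 1; 0, 0, 2, 0; 1, 0, 2, 0; 0, 1, 2, 0] := by decide +kernel
  refine Units.ext ?_
  rw [show rootFive ^ 5 = (rootFive ^ 2) ^ 2 * rootFive from by rw [← pow_mul, ← pow_succ],
    Units.val_mul, Units.val_pow_eq_pow_val, h2]
  decide +kernel

theorem semiFour_rootFive : semiFour * rootFive = rootFive ^ 3 * semiFour := by decide +kernel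

theorem rootFive_fpf : ∀ w : Fin 4 → ZMod 3,
    (rootFive : Matrix (Fin 4) (Fin 4) (ZMod 3)) *ᵥ w = w → w = 0 := by decide +kernel

theorem pow_comm_rule (j k : ℕ) :
    semiFour ^ j * rootFive ^ k = rootFive ^ (k * 3 ^ j) * semiFour ^ j := by
  induction j generalizing k with
  | zero => simp
  | succ j ih =>
    have h1 : semiFour * rootFive ^ k = rootFive ^ (3 * k) * semiFour := by
      have h := (show SemiconjBy semiFour rootFive (rootFive ^ 3) from semiFour_rootFive).pow_right k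
      rw [pow_mul]; exact h
    rw [pow_succ, mul_assoc, h1, ← mul_assoc, ih, mul_assoc, show 3 * k * 3 ^ j = k * 3 ^ (j + 1) by ring]

theorem semiFour_orderOf : orderOf semiFour = 8 := by
  refine orderOf_eq_prime_pow (p := 2) (n := 2) ?_ ?_
  · rw [show 2 ^ 2 = 4 from rfl, semiFour_four]; decide +kernel
  · rw [show semiFour ^ 2 ^ (2 + 1) = (semiFour ^ 4) ^ 2 from pow_mul semiFour 4 2, semiFour_four]
    simp

theorem rootFive_orderOf : orderOf rootFive = 5 := by
  haveI : Fact (Nat.Prime 5) := ⟨by norm_num⟩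
  exact orderOf_eq_prime rootFive_five (by decide +kernel)

/-- The normal forms. -/
def form (i j : ℕ) : (Matrix (Fin 4) (Fin 4) (ZMod 3))ˣ := rootFive ^ i * semiFour ^ j

theorem form_mod (i j : ℕ) : form (i % 5) (j % 8) = form i j := by
  unfold form
  rw [← rootFive_orderOf, pow_mod_orderOf, ← semiFour_orderOf, pow_mod_orderOf]

theorem form_mul (i j k l : ℕ) : form i j * form k l = form (i + k * 3 ^ j) (j + l) := by
  unfold form
  rw [mul_assoc, ← mul_assoc (semiFour ^ j), pow_comm_rule, pow_add, pow_add]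
  group

theorem form_pow (i j n : ℕ) :
    form i j ^ n = form (i * ∑ t ∈ Finset.range n, 3 ^ (j * t)) (j * n) := by
  induction n with
  | zero => simp [form]
  | succ n ih =>
    rw [pow_succ, ih, form_mul, Finset.sum_range_succ, mul_add, mul_add, mul_one]

/-- The complement of order forty. -/
def forty : Subgroup (Matrix (Fin 4) (Fin 4) (ZMod 3))ˣ :=
  Subgroup.closure {rootFive, semiFour}

theorem exists_form (c : ↥forty) : ∃ i < 5, ∃ j < 8,
    (c : (Matrix (Fin 4) (Fin 4) (ZMod 3))ˣ) = form i j := by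
  suffices h : ∀ c ∈ forty, ∃ i j, c = form i j by
    obtain ⟨i, j, h⟩ := h _ c.2
    exact ⟨i % 5, Nat.mod_lt _ (by norm_num), j % 8, Nat.mod_lt _ (by norm_num),
      by rw [form_mod]; exact h⟩
  intro c hc
  unfold forty at hc
  rw [← Subgroup.mem_toSubmonoid, Subgroup.closure_toSubmonoid_of_finite] at hc
  induction hc using Submonoid.closure_induction with
  | mem x hx =>
    rcases hx with rfl | rfl
    · exact ⟨1, 0, by simp [form]⟩
    · exact ⟨0, 1, by simp [form]⟩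
  | one => exact ⟨0, 0, by simp [form]⟩
  | mul x y _ _ hx hy =>
    obtain ⟨i, j, rfl⟩ := hx
    obtain ⟨k, l, rfl⟩ := hy
    exact ⟨_, _, form_mul i j k l⟩

theorem form_eq_one {i j : ℕ} (hi : 5 ∣ i) (hj : 8 ∣ j) : form i j = 1 := by
  rw [← form_mod, Nat.mod_eq_zero_of_dvd hi, Nat.mod_eq_zero_of_dvd hj]
  simp [form]

theorem nat_orders : ∀ i < 5, ∀ j < 8,
    5 ∣ i * (∑ t ∈ Finset.range 8, 3 ^ (j * t)) ∨
    (5 ∣ i * (∑ t ∈ Finset.range 10, 3 ^ (j * t)) ∧ 8 ∣ j * 10) := by decide +kernel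

theorem nat_fix : ∀ i < 5, ∀ j < 8, j ≠ 0 → ∃ n < 9,
    i * (∑ t ∈ Finset.range n, 3 ^ (j * t)) % 5 = 0 ∧ j * n % 8 = 4 := by decide +kernel

theorem nat_inv : ∀ i < 5, i ≠ 0 → ∃ m < 5, i * m % 5 = 1 := by decide

theorem forty_fpf (c : ↥forty) (hc : c ≠ 1) (w : Fin 4 → ZMod 3) (hw : c • w = w) : w = 0 := by
  obtain ⟨i, hi, j, hj, h⟩ := exists_form c
  have hw' : form i j • w = w := by rw [← h]; exact hw
  have hpow : ∀ n, form i j ^ n • w = w := by
    intro n
    induction n with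
    | zero => rw [pow_zero, one_smul]
    | succ n ih => rw [pow_succ, mul_smul, hw', ih]
  by_cases hj0 : j = 0
  · subst hj0
    have hi0 : i ≠ 0 := fun h0 => hc (Subtype.ext (by rw [h, h0]; simp [form]))
    obtain ⟨m, -, hm⟩ := nat_inv i hi hi0
    have h2 := hpow m
    simp only [form, pow_zero, mul_one] at h2
    rw [← pow_mul, ← pow_mod_orderOf, rootFive_orderOf, hm, pow_one] at h2
    exact rootFive_fpf w h2
  · obtain ⟨n, -, hn1, hn2⟩ := nat_fix i hi j hj hj0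
    have h2 := hpow n
    rw [form_pow, ← form_mod, hn1, hn2] at h2
    simp only [form, pow_zero, one_mul, semiFour_four, units_smul_eq, Units.val_neg, Units.val_one,
      Matrix.neg_mulVec, Matrix.one_mulVec] at h2
    funext k
    have h3 := congrFun h2 k
    simp only [Pi.neg_apply, Pi.zero_apply] at h3 ⊢
    revert h3
    generalize w k = z
    revert z
    decide

theorem spec_nine (N : ℕ) : ∃ (H : Type) (_ : Group H) (_ : Fintype H), N < Fintype.card H ∧
    Set.range (orderOf : H → ℕ) = specSet 3 9 := by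
  classical
  obtain ⟨h1, h2⟩ := frob_spec (C := ↥forty) (W := Fin 4 → ZMod 3) 3 8 10
    three_smul
    forty_fpf
    (fun c => by
      obtain ⟨i, hi, j, hj, h⟩ := exists_form c
      refine (nat_orders i hi j hj).imp (fun h8 => Subtype.ext ?_) (fun h10 => Subtype.ext ?_) <;>
        rw [SubmonoidClass.coe_pow, h, form_pow]
      · exact form_eq_one h8 (dvd_mul_left 8 j)
      · exact form_eq_one h10.1 h10.2)
    ⟨⟨semiFour, Subgroup.subset_closure (by simp)⟩, by
      rw [← Subgroup.orderOf_coe]; exact semiFour_orderOf⟩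
    ⟨⟨rootFive * semiFour ^ 4, mul_mem (Subgroup.subset_closure (by simp))
        (pow_mem (Subgroup.subset_closure (by simp)) 4)⟩, by
      rw [← Subgroup.orderOf_coe]
      show orderOf (rootFive * semiFour ^ 4) = 10
      rw [semiFour_four, (Commute.neg_one_right rootFive).orderOf_mul_eq_mul_orderOf_of_coprime,
        rootFive_orderOf, orderOf_eq_prime (p := 2) (by simp) (by decide +kernel)]
      rw [rootFive_orderOf, orderOf_eq_prime (p := 2) (by simp) (by decide +kernel)]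
      norm_num⟩ N
  haveI := Fintype.ofFinite (Ext ↥forty (Fin 4 → ZMod 3) (Fin (N + 1)))
  refine ⟨Ext ↥forty (Fin 4 → ZMod 3) (Fin (N + 1)), inferInstance, inferInstance,
    by rwa [← Nat.card_eq_fintype_card], ?_⟩
  rw [h2]
  rfl

end Cfsg.Agent.Lib.SpecPGL
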